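import Cfsg.Agent.H653.Sieve.Sys

/-!
# The sieve of helper653 with branching (helper349)

`Tr` is a tree of bounds on the numbers of the characters of given degrees (`num d ≤ k` or `num d ≥ k + 1`) with a Farkas
certificate at every leaf; `chk_sound` : if `chk` succeeds then the bounds at the root are contradictory.
`num_pos`, `num_le_one`, `two_le_num` : bounds. Python: `tools/h349/` (strong branching, `lp.cpp` of helper653).
-/

set_option autoImplicit false
set_option linter.unusedSectionVars false

open Cfsg Subgroup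

namespace Cfsg.Agent.H349.LD

open Cfsg.Agent.Characters.Core
open Cfsg.Agent.H653.Sieve (allDiv facProd Cf deg one_of_deg)
open Cfsg.Agent.H653.Sys

universe u

/-- a bound on the number of the characters of degree `d`: at most `k` (`up`) or at least `k` -/
structure Bd where
  d : ℕ
  k : ℤ
  up : Bool

/-- the branching tree -/
inductive Tr
  | leaf (a : ℤ) (cs : List Cf) (ms : List ℤ)
  | node (d : ℕ) (k : ℤ) (l r : Tr)

/-- the conditions of a leaf -/
def exs : List Bd → List ℤ → List Ex
  | b :: bs, m :: ms => ⟨fun x => Nat.beq x b.d, m, m * b.k⟩ :: exs bs ms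
  | _, _ => []

/-- the signs of the multipliers -/
def sgs : List Bd → List ℤ → Bool
  | b :: bs, m :: ms => (bif b.up then decide (0 ≤ m) else decide (m ≤ 0)) && sgs bs ms
  | _, _ => true

/-- the check -/
def chk (N : ℕ) (Fs : List Fam) (L : List (ℕ × ℕ)) : Tr → List Bd → Bool
  | .leaf a cs ms, bs => sgs bs ms && certOK N a cs (exs bs ms) Fs &&
      allDiv N (okD N a cs (exs bs ms) Fs (fun _ => false)) L 1
  | .node d k l r, bs => chk N Fs L l (⟨d, k, true⟩ :: bs) && chk N Fs L r (⟨d, k + 1, false⟩ :: bs)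

section

variable {G : Type u} [Group G] [Fintype (IrrCharacter G)]

/-- the bound holds -/
def Bd.Holds (b : Bd) (G : Type u) [Group G] [Fintype (IrrCharacter G)] : Prop :=
  bif b.up then num G (fun x => Nat.beq x b.d) ≤ b.k else b.k ≤ num G (fun x => Nat.beq x b.d)

theorem exs_holds : ∀ {bs : List Bd} {ms : List ℤ}, (∀ b ∈ bs, b.Holds G) → sgs bs ms = true →
    ∀ e ∈ exs bs ms, e.Holds G
  | [], ms, _, _, e, he => by cases ms <;> simp [exs] at he
  | b :: bs, [], _, _, e, he => by simp [exs] at he
  | b :: bs, m :: ms, hb, hs, e, he => by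
    rw [sgs, Bool.and_eq_true] at hs
    rw [exs, List.mem_cons] at he
    rcases he with rfl | he
    · have h1 := hb b List.mem_cons_self
      unfold Bd.Holds at h1
      obtain ⟨h2, -⟩ := hs
      cases hup : b.up
      · rw [hup] at h1 h2
        exact Ex.of_ge h1 (by simpa using h2)
      · rw [hup] at h1 h2
        exact Ex.of_le h1 (by simpa using h2)
    · exact exs_holds (fun b hb' => hb b (List.mem_cons_of_mem _ hb')) hs.2 e he

/-- **The sieve with branching.** -/
theorem chk_sound [Finite G] {lab : G → ℕ} (hlab : ∀ g h : G, IsConj g h → lab g = lab h) (h1 : lab 1 = 1)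
    (N : ℕ) (hN : Nat.card G = N) (L : List (ℕ × ℕ)) (hL : (L.all fun pa => Nat.Prime pa.1) = true)
    (hLN : facProd L = N) (hone : ∀ χ : IrrCharacter G, deg χ = 1 → (χ : G → ℂ) = 1)
    {Fs : List Fam} {Ws : List (IrrCharacter G → ℤ)} (hs : SysOK lab Fs Ws) :
    ∀ (t : Tr) (bs : List Bd), (∀ b ∈ bs, b.Holds G) → chk N Fs L t bs = true → False
  | .leaf a cs ms, bs, hb, h => by
    rw [chk, Bool.and_eq_true, Bool.and_eq_true] at h
    obtain ⟨χ, -, h2⟩ := exists_of_cert hlab h1 N hN L hL hLN hone hs _ (exs_holds hb h.1.1) a cs _ h.1.2 h.2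
    exact Bool.false_ne_true h2
  | .node d k l r, bs, hb, h => by
    rw [chk, Bool.and_eq_true] at h
    rcases le_or_gt (num G (fun x => Nat.beq x d)) k with hk | hk
    · refine chk_sound hlab h1 N hN L hL hLN hone hs l (⟨d, k, true⟩ :: bs) (fun b hb' => ?_) h.1
      rcases List.mem_cons.1 hb' with rfl | h3
      · exact hk
      · exact hb b h3
    · refine chk_sound hlab h1 N hN L hL hLN hone hs r (⟨d, k + 1, false⟩ :: bs) (fun b hb' => ?_) h.2
      rcases List.mem_cons.1 hb' with rfl | h3
      · exact hk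
      · exact hb b h3

theorem num_pos {d : ℕ} (h : ∃ χ : IrrCharacter G, deg χ = d) : 1 ≤ num G (fun x => Nat.beq x d) := by
  obtain ⟨χ₀, h0⟩ := h
  have h3 := Finset.single_le_sum (f := fun χ : IrrCharacter G => (bif Nat.beq (deg χ) d then (1 : ℤ) else 0))
    (fun χ _ => by cases Nat.beq (deg χ) d <;> simp) (Finset.mem_univ χ₀)
  have h4 : Nat.beq (deg χ₀) d = true := by rw [Nat.beq_eq]; exact h0
  simp only [h4, cond_true] at h3
  exact h3

theorem num_le_one {d : ℕ} (h : ∀ χ ψ : IrrCharacter G, deg χ = d → deg ψ = d → χ = ψ) :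
    num G (fun x => Nat.beq x d) ≤ 1 := by
  classical
  by_cases he : ∃ χ : IrrCharacter G, deg χ = d
  · obtain ⟨χ, hχ⟩ := he
    unfold num
    rw [Finset.sum_eq_single χ]
    · show (bif Nat.beq (deg χ) d then (1 : ℤ) else 0) ≤ 1
      generalize Nat.beq (deg χ) d = b
      cases b <;> decide
    · intro ψ _ hne
      show (bif Nat.beq (deg ψ) d then (1 : ℤ) else 0) = 0
      have h1 : Nat.beq (deg ψ) d = false := by
        rw [Bool.eq_false_iff]
        intro h2
        exact hne (h ψ χ (Nat.eq_of_beq_eq_true h2) hχ)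
      rw [h1]
      rfl
    · intro h1
      exact absurd (Finset.mem_univ χ) h1
  · push Not at he
    unfold num
    rw [Finset.sum_eq_zero]
    · norm_num
    · intro χ _
      show (bif Nat.beq (deg χ) d then (1 : ℤ) else 0) = 0
      have h1 : Nat.beq (deg χ) d = false := by
        rw [Bool.eq_false_iff]
        intro h2
        exact he χ (Nat.eq_of_beq_eq_true h2)
      rw [h1]
      rfl

theorem two_le_num {d : ℕ} {χ ψ : IrrCharacter G} (hχ : deg χ = d) (hψ : deg ψ = d) (hne : χ ≠ ψ) :
    2 ≤ num G (fun x => Nat.beq x d) := by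
  classical
  have h3 : ∑ θ ∈ ({χ, ψ} : Finset (IrrCharacter G)), (bif Nat.beq (deg θ) d then (1 : ℤ) else 0) ≤
      num G (fun x => Nat.beq x d) :=
    Finset.sum_le_sum_of_subset_of_nonneg (Finset.subset_univ _) fun θ _ _ => by
      cases Nat.beq (deg θ) d <;> simp
  rw [Finset.sum_pair hne] at h3
  have h4 : Nat.beq (deg χ) d = true := by rw [Nat.beq_eq]; exact hχ
  have h5 : Nat.beq (deg ψ) d = true := by rw [Nat.beq_eq]; exact hψ
  rw [h4, h5] at h3
  exact h3

end

end Cfsg.Agent.H349.LD
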