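import Cfsg.Agent.H349.LD.Branch
import Cfsg.Agent.H489.OutSpor
import Cfsg.Agent.H535.K4.ONFam
import Cfsg.Agent.H210.On7.Loc
import Cfsg.Agent.H492.FactsON
import Cfsg.Agent.H954.LD.Row

/-!
# S4910, the row `O'N` (helper349)

The degrees 10944 = 2⁶ · 3² · 19 and 116963 = 7³ · 11 · 31, each the degree of exactly one character (116963: helper535).

* `ON.uniq_10944` : at most one character of degree 10944 (the sieve with branching, 8 leaves).
-/

set_option autoImplicit false
set_option linter.unusedSectionVars false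

open Cfsg Subgroup

namespace Cfsg.Agent.H349.LD

open Cfsg.Agent.Characters.Core
open Cfsg.Agent.H653.Sieve (allDiv facProd Cf deg one_of_deg)
open Cfsg.Agent.H653.Sys

universe u

/-! ### O'N -/

namespace ON

open Cfsg.Agent.H535.K4.ON
open Cfsg.Agent.H210.On7 (Data)

/-- the tree -/
def tree : Tr :=
  (.node 498960 0
  (.node 147840 0
  (.node 6480 0
  (.node 589248 0
  (.node 31185 0
  (.leaf (21) [⟨1314506, -37162540800, 0, [-597440137140, -1420567319, 5140776686, 262713159778, -131008181069]⟩,
    ⟨-2582838, -40422412800, 672822639720, [-576335196110, -10026104686, -311104650881, 154983885260]⟩, ⟨9352223,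
    1170885703477, 0, [47479012286, 247244528075, -122640412818]⟩, ⟨228561, 611221783, 0, [8101520704, -4024092788]⟩,
    ⟨891479, -121622623866, 0, [122582656170]⟩, ⟨-441624, -30885672119, 0, []⟩] [692423299260, 115203876480,
    4629755786040, 4053736403640, 0, -691223258880, 0, 0, 0, -691223258880, -162005451300, 0, 0])
  (.node 381920 0
  (.node 175770 1
  (.leaf (6) [⟨-35125, -44926125408, 0, [-268402774670, 55323981724, 6214730563, 2016989662, 1537318942]⟩, ⟨-1120657,
    -223700412259, 1358193070080, [89551983447, 6481577551, -97573503326, 44633055507]⟩, ⟨3546163, 512723010619, 0,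
    [41131185863, -43688152763, 29018642469]⟩, ⟨151985, 738911439, 0, [3972891622, -1791581053]⟩, ⟨368841, -5629165107,
    0, [12644296393]⟩, ⟨-154344, -4914856920, 0, []⟩] [1018644802560, 2037289605120, -460815505920, 4365620582400,
    2910413721600, 3201455093760, 1455206860800, 0, 0, 0, 0, -835625932589, -835625932589, 0, 0])
  (.leaf (78) [⟨5796854, -66341493938, 0, [590641683345, 1033991651797, 9177165986, 293909488089, -128730968809]⟩,
    ⟨-5324906, -682068116387, 83811185170, [-386097581492, 9571213495, -609065460461, 341339412000]⟩, ⟨31883030,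
    3332754854644, 0, [124398129715, -171530224322, 226721614607]⟩, ⟨672113, 1091135465, 0, [5464890040, -2262284713]⟩,
    ⟨-2040420, -138922277069, 0, [138384951004]⟩, ⟨1177288, -18035497991, 0, []⟩] [-1233951787240, 0, -197773955250, 0,
    0, 0, 0, -249681405299, -175215021262, 0, -341669291462, -1233951787240, -1233951787240, 0, 1233951787240]))
  (.leaf (-35) [⟨-11428161, -711346257985, 0, [-5567233314923, -1871274903245, 98402105459, -89805149022,
    706022109207]⟩, ⟨18048718, -773745052545, 14638418194338, [2337359045501, 254378288365, 345593678158,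
    717542674337]⟩, ⟨-25330735, -4009406181368, 0, [128527773441, 664701077975, 3681775091153]⟩, ⟨1136582, 11827769044,
    0, [-6173027047, 21395045143]⟩, ⟨4348054, 398095406542, 0, [-105834461433]⟩, ⟨10160678, 352079839655, 0, []⟩]
    [-14786041252139, 0, 48929228322679, 43915254583014, 19786699970904, 0, -4974028676966, -3825463395879,
    -74100985877, -7377679406337, -13231040398515, -13231040398515, 0, 0])))
  (.leaf (549) [⟨40619921, -486855953347, 0, [1037631564150, 6249262917324, 67347863754, 3806272242601,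
    -1888283851585]⟩, ⟨-69213460, -529562615922, 243992292383, [-11008586686305, -144762025981, -5279860491877,
    2602221564251]⟩, ⟨217150948, 20626312943050, 0, [821990648565, 3869926633033, -1694860462159]⟩, ⟨4560813,
    8073141364, 0, [166493949026, -85045066419]⟩, ⟨6584953, -2132270176083, 0, [2155395734864]⟩, ⟨-3311174,
    -506832694781, 0, []⟩] [-9055520732262, 0, 0, 0, -280821317649, -225362943770, -38010623159, -665408413983,
    -9055520732262, -840238866003, 0, 0]))
  (.leaf (163) [⟨11853016, -159945170254, 0, [917360426206, 379726260760, 22125570120, 1497900524986, -882293837571]⟩,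
    ⟨-18191979, -591666515106, 7457077225, [396030878933, -15218803452, -318375785489, 416701165627]⟩, ⟨43307704,
    1400637447945, 0, [90313335594, -2709448066057, 1061679952969]⟩, ⟨1387169, 2651364419, 0, [77731206531,
    -50384250926]⟩, ⟨5866392, -322100352418, 0, [-85275784170]⟩, ⟨-4669667, 139215452520, 0, []⟩] [-2974980166716, 0,
    962113909017, 0, -92504853059, -11979567402, -324882316237, -2974980166716, -2974980166716, 0, 2593759106689]))
  (.leaf (1069) [⟨77219581, -1116833836253, 0, [33120445396907, 14534522444629, 154494101433, -11914824249764,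
    6069808148489]⟩, ⟨194751263, -47141809285902, -127208425497, [56955042243596, 1998053123868, 683607111866,
    -352062374416]⟩, ⟨429445351, 42232537424849, 0, [1490566361770, -45509382938304, 23859301667492]⟩, ⟨8791355,
    18651020387, 0, [-1154662053566, 570902774166]⟩, ⟨-212723281, 8972613978932, 0, [-8912714493474]⟩, ⟨108325930,
    2365899625798, 0, []⟩] [-20773109354303, 5835852328372, 0, -757480410638, -163255234286, -2568509225355,
    -20773109354303, -20773109354303, 0, 0]))
  (.leaf (244) [⟨17907717, -223323573638, -5345827736, [2470825960212, 3152576054394, 30892845218, 233937033396,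
    -99354361030]⟩, ⟨-4888224, -3618817405259, 298141045730, [552958435782, 91540120780, -1635351954491, 776110400755]⟩,
    ⟨99504998, 9881594691724, 0, [369588383468, -1933573910384, 1201537992842]⟩, ⟨2067256, 3694157959, 0, [-31919386184,
    14406749684]⟩, ⟨-12525868, -20543435481, 0, [58319179305]⟩, ⟨6941099, 10322499300, 0, []⟩] [-4153818469672,
    -297450034631, -312715972788, -13025192619, -599734855800, -4153818469672, -4153818469672, 0, 3002087864662]))

/-- the bounds: two characters of degree 10944; known degrees; 58653 and 116963 are the degrees of one character -/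
def bds : List Bd := [⟨10944, 2, false⟩, ⟨26752, 1, false⟩, ⟨32395, 1, false⟩, ⟨52668, 1, false⟩, ⟨58653, 1, false⟩,
  ⟨116963, 1, false⟩, ⟨58653, 1, true⟩, ⟨116963, 1, true⟩]

theorem chk_tree : chk NN Fs facs tree bds = true := by decide +kernel

theorem simple : IsSimpleGroup Spor.ON := KFacts.ON.Cent.hON.1

theorem not_comm : ¬ IsMulCommutative Spor.ON := by
  intro h
  have h1 := H210.On7.px1
  rw [h.is_comm.comm H210.On7.p0 H210.On7.x1, mul_inv_cancel_right] at h1
  have h3 := H210.On7.px2
  rw [h.is_comm.comm H210.On7.p0 H210.On7.x2, mul_inv_cancel_right, ← h1] at h3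
  have h4 : H210.On7.x1 ^ 2 = 1 := by rw [pow_two]; nth_rewrite 1 [h3]; exact inv_mul_cancel _
  exact H210.On7.x1_ne (R04.ThreeAbs.eq_one_of_sq_cube h4 H210.On7.x1_pow)

theorem uniq_116963 {χ ψ : IrrCharacter Spor.ON} (h1 : charDegree (χ : Spor.ON → ℂ) = 116963)
    (h2 : charDegree (ψ : Spor.ON → ℂ) = 116963) : χ = ψ := by
  have hfin : Finite Spor.ON := KFacts.ON.Cent.finite_ON
  have hs := simple
  obtain ⟨Δ⟩ := H210.On7.exists_data
  exact uniq_deg not_comm Δ 116963 a_u116963 m_u116963 (by norm_num [m_u116963]) cs_u116963 cert_u116963 all_u116963 h1 h2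

theorem uniq_58653 {χ ψ : IrrCharacter Spor.ON} (h1 : charDegree (χ : Spor.ON → ℂ) = 58653)
    (h2 : charDegree (ψ : Spor.ON → ℂ) = 58653) : χ = ψ := by
  have hfin : Finite Spor.ON := KFacts.ON.Cent.finite_ON
  have hs := simple
  obtain ⟨Δ⟩ := H210.On7.exists_data
  exact uniq_deg not_comm Δ 58653 a_u58653 m_u58653 (by norm_num [m_u58653]) cs_u58653 cert_u58653 all_u58653 h1 h2

theorem exists_116963 : ∃ χ : IrrCharacter Spor.ON, charDegree (χ : Spor.ON → ℂ) = 116963 := by
  have hfin : Finite Spor.ON := KFacts.ON.Cent.finite_ON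
  have hs := simple
  obtain ⟨Δ⟩ := H210.On7.exists_data
  obtain ⟨c, -, hc⟩ := exists_deg not_comm Δ 116963 a_f116963 cs_f116963 cert_f116963 all_f116963
  exact ⟨c, hc⟩

theorem exists_58653 : ∃ χ : IrrCharacter Spor.ON, charDegree (χ : Spor.ON → ℂ) = 58653 := by
  have hfin : Finite Spor.ON := KFacts.ON.Cent.finite_ON
  have hs := simple
  obtain ⟨Δ⟩ := H210.On7.exists_data
  obtain ⟨c, -, hc⟩ := exists_deg not_comm Δ 58653 a_f58653 cs_f58653 cert_f58653 all_f58653
  exact ⟨c, hc⟩

theorem exists_of_one {n : ℕ} (h : ∃ χ : IrrCharacter Spor.ON, (χ : Spor.ON → ℂ) 1 = (n : ℕ)) :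
    ∃ χ : IrrCharacter Spor.ON, charDegree (χ : Spor.ON → ℂ) = n := by
  obtain ⟨χ, hχ⟩ := h
  exact ⟨χ, Cfsg.Agent.H670.PSing.charDegree_eq_of hχ⟩

/-- **At most one character of degree 10944.** -/
theorem uniq_10944 {χ ψ : IrrCharacter Spor.ON} (h1 : charDegree (χ : Spor.ON → ℂ) = 10944)
    (h2 : charDegree (ψ : Spor.ON → ℂ) = 10944) : χ = ψ := by
  by_contra hne
  have hfin : Finite Spor.ON := KFacts.ON.Cent.finite_ON
  have hs := simple
  obtain ⟨Δ⟩ := H210.On7.exists_data
  have := finite_irr (G := Spor.ON)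
  have := Fintype.ofFinite (IrrCharacter Spor.ON)
  obtain ⟨A, B, C, T, F, u, hsys, -, -⟩ := exists_sys not_comm Δ
  have hnp : ¬ (Nat.card Spor.ON).Prime := by
    rw [Δ.card]
    exact fun h => absurd (h.eq_one_or_self_of_dvd 2 (by norm_num)) (by norm_num)
  refine chk_sound (lab := fun g : Spor.ON => orderOf g) (fun g h hc => isConj_order hc) orderOf_one NN
    Δ.card facs facs_prime facs_prod (fun χ h => one_of_deg hnp χ h) hsys tree bds (fun b hb => ?_) chk_tree
  simp only [bds, List.mem_cons, List.not_mem_nil, or_false] at hb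
  rcases hb with rfl | rfl | rfl | rfl | rfl | rfl | rfl | rfl
  · exact two_le_num h1 h2 hne
  · exact num_pos (exists_of_one H492.FactsON.exists_26752)
  · exact num_pos (exists_of_one H492.FactsON.exists_32395)
  · exact num_pos (exists_of_one H492.FactsON.exists_52668)
  · exact num_pos exists_58653
  · exact num_pos exists_116963
  · exact num_le_one fun χ ψ h3 h4 => uniq_58653 h3 h4
  · exact num_le_one fun χ ψ h3 h4 => uniq_116963 h3 h4

end ON

open Cfsg.Agent.H954.LD

/-- transport of an invariant character -/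
theorem exists_inv_of_uniq {H : Type*} {G : Type u} [Group H] [Group G] [Finite G] (E : G ≃* H) {d : ℕ}
    (h : ∃ χ : IrrCharacter H, charDegree (χ : H → ℂ) = d)
    (hu : ∀ χ ψ : IrrCharacter H, charDegree (χ : H → ℂ) = d → charDegree (ψ : H → ℂ) = d → χ = ψ) :
    ∃ χ : IrrCharacter G, charDegree (χ : G → ℂ) = d ∧ Inv χ := by
  obtain ⟨χ, h1⟩ := h
  have hdeg : ∀ χ : IrrCharacter G, charDegree ((χ : G → ℂ) ∘ E.symm.toMonoidHom) = charDegree (χ : G → ℂ) := by
    intro χ
    unfold charDegree
    rw [Function.comp_apply, map_one]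
  obtain ⟨α, hα⟩ : ∃ α : IrrCharacter G, α = ⟨(χ : H → ℂ) ∘ E.toMonoidHom, isIrr_comp E.toMonoidHom E.surjective χ.2⟩ :=
    ⟨_, rfl⟩
  have hαd : charDegree (α : G → ℂ) = d := by
    rw [hα, ← h1]
    unfold charDegree
    show ⌊((χ : H → ℂ) (E.toMonoidHom 1)).re⌋₊ = _
    rw [map_one]
  refine ⟨α, hαd, inv_of_unique fun ψ hψ => ?_⟩
  rw [hαd] at hψ
  have h2 := hu ⟨_, isIrr_comp E.symm.toMonoidHom E.symm.surjective ψ.2⟩ ⟨_, isIrr_comp E.symm.toMonoidHom E.symm.surjective α.2⟩
    ((hdeg ψ).trans hψ) ((hdeg α).trans hαd)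
  apply Subtype.ext
  funext g
  have h3 := congrFun (congrArg Subtype.val h2) (E g)
  have h4 : (ψ : G → ℂ) (E.symm (E g)) = (α : G → ℂ) (E.symm (E g)) := h3
  rwa [E.symm_apply_apply] at h4

/-- **The row of the O'Nan group.** -/
theorem row_ON {S : Type u} [Group S] [Finite S] [IsSimpleGroup S] (hna : ¬ IsMulCommutative S) (h : Spor.IsoON S) :
    CopRow S := by
  have h2 : Nat.card (Out S) ≤ 2 := by
    apply H489.card_out_sporadic
    unfold IsSporadicGroup
    tauto
  obtain ⟨e⟩ := h
  obtain ⟨α, hα, hiα⟩ := exists_inv_of_uniq e (ON.exists_of_one H492.FactsON.exists_10944)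
    fun χ ψ h3 h4 => ON.uniq_10944 h3 h4
  obtain ⟨β, hβ, hiβ⟩ := exists_inv_of_uniq e ON.exists_116963 fun χ ψ h3 h4 => ON.uniq_116963 h3 h4
  exact copRow_inv hna h2 (α := α) (β := β) (by rw [hα]; norm_num) (by rw [hβ]; norm_num) (by rw [hα, hβ]; norm_num)
    hiα hiβ

end Cfsg.Agent.H349.LD
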